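import Groth.Agent.Etbc.H212.CdMV
import Groth.Agent.Etcore.Torsion
import Groth.Agent.S3736
import Groth.Agent.EtDual.K336.GlobZ
import Groth.Agent.CalgB.PowField

/-!
# The cohomological dimension of the punctured spectrum of a power series ring is finite
-/

set_option autoImplicit false
universe u

open CategoryTheory CategoryTheory.Limits AlgebraicGeometry Opposite

namespace K177.CdUp

open Groth.Agent Groth.Agent.EtpbcA

variable {X : Scheme.{u}}

theorem cohDimLE_mono {d e : ℕ} (h : EtCoh.CohDimLE X d) (hde : d ≤ e) : EtCoh.CohDimLE X e :=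
  fun F hF q hq => h F hF q (hde.trans_lt hq)

theorem cohDimLE_top {d : ℕ} (U V : X.Opens) (hUV : U ⊔ V = ⊤)
    (hU : EtCoh.CohDimLE (U : Scheme.{u}) d) (hV : EtCoh.CohDimLE (V : Scheme.{u}) d)
    (hW : EtCoh.CohDimLE ((U ⊓ V : X.Opens) : Scheme.{u}) d) :
    EtCoh.CohDimLE X (d + 1) := by
  intro F hF q hq
  obtain ⟨n, rfl⟩ : ∃ n, q = n + 1 := ⟨q - 1, by omega⟩
  have hpf : ∀ {A B : Scheme.{u}} (f : A ⟶ B), PreservesFiniteLimits (EtCoh.pull f) :=
    fun f => Groth.Agent.S0101.result f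
  have i1 := hpf U.ι
  have i2 := hpf V.ι
  have i3 := hpf (X.homOfLE (inf_le_left : U ⊓ V ≤ U))
  have i4 := hpf (X.homOfLE (inf_le_right : U ⊓ V ≤ V))
  obtain ⟨δ, -, h2, -, -⟩ := Groth.Agent.S0659.result X U V hUV F
  have s1 : Subsingleton (EtCoh.H (U : Scheme.{u}) ((EtCoh.pull U.ι).obj F) (n + 1)) :=
    hU _ (Etcore.Torsion.isTorsion_pull U.ι F hF) _ (by omega)
  have s2 : Subsingleton (EtCoh.H (V : Scheme.{u}) ((EtCoh.pull V.ι).obj F) (n + 1)) :=
    hV _ (Etcore.Torsion.isTorsion_pull V.ι F hF) _ (by omega)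
  have s3 : Subsingleton (EtCoh.H ((U ⊓ V : X.Opens) : Scheme.{u}) ((EtCoh.pull (U ⊓ V).ι).obj F) n) :=
    hW _ (Etcore.Torsion.isTorsion_pull (U ⊓ V).ι F hF) _ (by omega)
  refine subsingleton_of_forall_eq 0 fun x => ?_
  have hx : x ∈ (AddMonoidHom.prod (EtCore.Hpull U.ι F (n + 1)) (EtCore.Hpull V.ι F (n + 1))).ker := by
    rw [AddMonoidHom.mem_ker]
    exact Prod.ext (Subsingleton.elim _ _) (Subsingleton.elim _ _)
  rw [h2 n] at hx
  obtain ⟨y, rfl⟩ := hx
  rw [Subsingleton.elim y 0, map_zero]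

/-- Mayer–Vietoris for two opens of a scheme. -/
theorem cohDimLE_union {d : ℕ} (U V : X.Opens)
    (hU : EtCoh.CohDimLE (U : Scheme.{u}) d) (hV : EtCoh.CohDimLE (V : Scheme.{u}) d)
    (hW : EtCoh.CohDimLE ((U ⊓ V : X.Opens) : Scheme.{u}) d) :
    EtCoh.CohDimLE ((U ⊔ V : X.Opens) : Scheme.{u}) (d + 1) := by
  let W : X.Opens := U ⊔ V
  let U' : (W : Scheme.{u}).Opens := W.ι ⁻¹ᵁ U
  let V' : (W : Scheme.{u}).Opens := W.ι ⁻¹ᵁ V
  have e : ∀ A : X.Opens, A ≤ W → Nonempty ((A : Scheme.{u}) ≅ ((W.ι ⁻¹ᵁ A : (W : Scheme.{u}).Opens) : Scheme.{u})) := by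
    intro A hA
    refine ⟨IsOpenImmersion.isoOfRangeEq A.ι ((W.ι ⁻¹ᵁ A).ι ≫ W.ι) ?_⟩
    rw [Scheme.Opens.range_ι, Scheme.Hom.comp_base, TopCat.coe_comp, Set.range_comp,
      Scheme.Opens.range_ι]
    change _ = W.ι '' (W.ι ⁻¹' (A : Set X))
    rw [Set.image_preimage_eq_inter_range, Scheme.Opens.range_ι]
    exact (Set.inter_eq_left.2 hA).symm
  refine cohDimLE_top U' V' ?_ ?_ ?_ ?_
  · change W.ι ⁻¹ᵁ U ⊔ W.ι ⁻¹ᵁ V = ⊤
    rw [← Scheme.Hom.preimage_sup]
    exact Scheme.Opens.ι_preimage_self W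
  · obtain ⟨i⟩ := e U le_sup_left
    exact CdExact.cohDimLE_of_iso i d hU
  · obtain ⟨i⟩ := e V le_sup_right
    exact CdExact.cohDimLE_of_iso i d hV
  · obtain ⟨i⟩ := e (U ⊓ V) (inf_le_left.trans le_sup_left)
    exact CdExact.cohDimLE_of_iso i d hW

/-- Finiteness of `cd` on a qcqs scheme, from the case of affine opens. -/
theorem exists_bound (X : Scheme.{u}) [CompactSpace X] [QuasiSeparatedSpace X] {d : ℕ}
    (h : ∀ U : X.Opens, IsAffineOpen U → EtCoh.CohDimLE (U : Scheme.{u}) d) :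
    ∃ N, EtCoh.CohDimLE X N := by
  have key := Groth.Agent.S0015.result X (fun U => ∃ N, EtCoh.CohDimLE (U : Scheme.{u}) N)
    (fun U hU => ⟨d, h U hU⟩) (by
      rintro U V - - ⟨a, ha⟩ ⟨b, hb⟩ ⟨c, hc⟩
      refine ⟨a + b + c + 1, cohDimLE_union U V ?_ ?_ ?_⟩
      · exact cohDimLE_mono ha (by omega)
      · exact cohDimLE_mono hb (by omega)
      · exact cohDimLE_mono hc (by omega)) ⊤ isCompact_univ
  obtain ⟨N, hN⟩ := key
  exact ⟨N, CdExact.cohDimLE_of_iso X.topIso N hN⟩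

/-- **The punctured spectrum of a power series ring has finite cohomological dimension.** -/
theorem exists_up (K : Type u) [Field K] [IsAlgClosed K] [CharZero K] (m : ℕ) :
    ∃ N, EtCoh.CohDimLE (EtDual.K336.GlobS.Up (MvPowerSeries (Fin m) K) : Scheme.{u}) N := by
  let S : Scheme.{u} := Spec (CommRingCat.of (MvPowerSeries (Fin m) K))
  have hN : IsNoetherianRing (MvPowerSeries (Fin m) K) := inferInstance
  have hS : IsNoetherian S := inferInstance
  let V : S.Opens := EtDual.K336.GlobS.Up (MvPowerSeries (Fin m) K)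
  have h1 : IsLocallyNoetherian V.toScheme := isLocallyNoetherian_of_isOpenImmersion V.ι
  have h2 : CompactSpace V.toScheme := isCompact_iff_compactSpace.mp (TopologicalSpace.NoetherianSpace.isCompact _)
  refine exists_bound V.toScheme (d := m) fun U hU => ?_
  have h3 := Groth.Agent.S3736.result K m (V.ι ''ᵁ U) (hU.image_of_isOpenImmersion V.ι)
  have e : ((V.ι ''ᵁ U : S.Opens) : Scheme.{u}) ≅ (U : Scheme.{u}) := by
    refine IsOpenImmersion.isoOfRangeEq (V.ι ''ᵁ U).ι (U.ι ≫ V.ι) ?_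
    rw [Scheme.Opens.range_ι, Scheme.Hom.comp_base, TopCat.coe_comp, Set.range_comp,
      Scheme.Opens.range_ι]
    rfl
  exact CdExact.cohDimLE_of_iso e m h3

end K177.CdUp
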