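import Groth.Agent.EtDepth.K584.LDAbs

/-!
# Local duality read backwards, abstractly

In the situation of `K336.StrictAbs.local_dual`: `Hom(H^b (D K), P) = 0` implies `Hom(P, K[c - b]) = 0`.
-/

set_option autoImplicit false
set_option backward.defeqAttrib.useBackward true
set_option backward.isDefEq.respectTransparency false

universe w w' v₁ u₁

namespace K177.CvAbs

open CategoryTheory Category Limits HomologicalComplex CochainComplex Opposite ZeroObject Pretriangulated
open Groth.Agent.Sga4h.DualCx Groth.Agent.Sga4h.DualSelf Groth.Agent.Sga4h.Refl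
open Groth.Agent.Sga4h Groth.Agent.Sga4h.BidGlobU DerivedCategory Groth.Agent.EtDual.K336.StrictAbs

variable {C : Type u₁} [Category.{v₁} C] [Abelian C] [HasDerivedCategory.{w} C]

section

variable {T : C ⥤ C ⥤ C} [T.Additive]
  [∀ X, (T.obj X).Additive]
  [∀ (K₁ K₂ : CochainComplex C ℤ), CochainComplex.HasMapBifunctor K₁ K₂ T]
  [∀ E : CochainComplex C ℤ, (T.map₂CochainComplex.flip.obj E).IsLeftAdjoint]
  [∀ (J : Type), HasColimitsOfShape (Discrete J) C]
  [∀ (J : Type), (colim : (Discrete J ⥤ C) ⥤ C).PreservesMonomorphisms]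
  (A : DualData T) {I P : C} [Projective I] [Injective P] {n : ℕ}
  (hP : ∀ F : C, Nonempty ((F ⟶ P) ≃+ ((I ⟶ F) →+ ZMod n))) {c : ℤ}
  (hc : Nonempty (Q.obj (A.D ((CochainComplex.singleFunctor C 0).obj P)) ≅
    (Q.obj ((CochainComplex.singleFunctor C 0).obj P))⟦-c⟧))

include hP hc in
theorem subsingleton_hom (K : CochainComplex C ℤ) (hK : A.Refl K) (b i : ℤ) (hi : c - i = b)
    (h : Subsingleton ((A.D K).homology b ⟶ P)) :
    Subsingleton ((DerivedCategory.singleFunctor C 0).obj P ⟶ (Q.obj K)⟦i⟧) := by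
  subst hi
  obtain ⟨e1⟩ := local_dual A hP hc K hK i
  obtain ⟨e2⟩ := hP ((DerivedCategory.homologyFunctor C (c - i)).obj (Q.obj (A.D K)))
  obtain ⟨e3⟩ := nonempty_homProj I (Q.obj (A.D K)) (c - i)
  have h' : Subsingleton ((HomologicalComplex.homologyFunctor C (ComplexShape.up ℤ) (c - i)).obj (A.D K) ⟶ P) := h
  have h0 : Subsingleton ((DerivedCategory.homologyFunctor C (c - i)).obj (Q.obj (A.D K)) ⟶ P) :=
    (homAddCongr ((homologyFunctorFactors C (c - i)).app (A.D K)) (Iso.refl P)).injective.subsingleton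
  have h1 : Subsingleton ((I ⟶ (DerivedCategory.homologyFunctor C (c - i)).obj (Q.obj (A.D K))) →+ ZMod n) :=
    e2.symm.injective.subsingleton
  exact (e1.trans (AddEquiv.addMonoidHomCongrLeft e3)).injective.subsingleton

end

/-- `Ext^i(P, F) = 0` if `Hom(P, F[i]) = 0`. -/
theorem subsingleton_ext [HasExt.{w'} C] (P F : C) (i : ℕ)
    (h : Subsingleton ((DerivedCategory.singleFunctor C 0).obj P ⟶
      (Q.obj ((CochainComplex.singleFunctor C 0).obj F))⟦(i : ℤ)⟧)) :
    Subsingleton (Abelian.Ext.{w'} P F i) := by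
  have e0 : (DerivedCategory.singleFunctor C 0).obj F ≅ Q.obj ((CochainComplex.singleFunctor C 0).obj F) :=
    (DerivedCategory.singleFunctorIsoCompQ C 0).app F
  have h1 : Subsingleton ((DerivedCategory.singleFunctor C 0).obj P ⟶
      ((DerivedCategory.singleFunctor C 0).obj F)⟦(i : ℤ)⟧) :=
    (homAddCongr (Iso.refl _) ((CategoryTheory.shiftFunctor _ (i : ℤ)).mapIso e0)).injective.subsingleton
  exact (Abelian.Ext.homEquiv (C := C) (X := P) (Y := F) (n := i)).injective.subsingleton

end K177.CvAbs
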