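import Groth.Agent.EtDepth.K177.CvAbs
import Groth.Agent.EtDepth.K584.PtSP
import Groth.Agent.EtDual.K152.PunctH

/-!
# The converse of the bound at the closed point of `Spec K[[x_1, …, x_c]]`

Biduality on `Spec K[[x_1, …, x_c]]` and the vanishing of `H^b (D F)` at the closed point for `b > 2c - k` imply that the
local cohomology sheaves `ℋ^i_t(F)` vanish for `i < k`.
-/

set_option autoImplicit false
universe w' u

open CategoryTheory CategoryTheory.Limits AlgebraicGeometry Opposite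

attribute [local instance 5000] CategoryTheory.Abelian.toPreadditive
  CategoryTheory.Preadditive.preadditiveHasZeroMorphisms

namespace K177.CvLoc

attribute [local instance] HasDerivedCategory.standard
open scoped Groth.Agent.Sga4h.ModInst
open Groth.Agent Groth.Agent.Sga4h Groth.Agent.Sga4h.Refl DerivedCategory
open Groth.Agent.Sga4h.BidIndD48 Groth.Agent.Sga4h.BidIndLoc48 Groth.Agent.Sga4h.BidLoc48
open Groth.Agent.Sga4h.BidRed538Main Groth.Agent.EtDual.K336.StrictS Groth.Agent.EtDual.K336.StrictAbs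
open Groth.Agent.EtDual.K336.GlobS Groth.Agent.Etrest.ModAb Groth.Agent.EtDual.K336

section Ext

variable {Λ : Type (u + 1)} [CommRing Λ] {X U Z : Scheme.{u}}

/-- `H^i_Z(X, M) = 0` if `Ext^i(b_* b^* Λ, M) = 0`. -/
theorem isZero_HY (j : U ⟶ X) [IsOpenImmersion j] [EtCoh.BCCont j] (b : Z ⟶ X) [IsClosedImmersion b]
    (hr : Set.range j = (Set.range b)ᶜ) (P : EtModW.Mod Λ X) (e0 : Nonempty (ExtPP.P' Λ b ≅ P))
    (M : EtModW.Mod Λ X) (i : ℕ) (h : Subsingleton (Abelian.Ext.{u + 1} P M i)) :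
    IsZero ((EtDual.HY j i).obj ((ab Λ X).obj M)) := by
  obtain ⟨e0⟩ := e0
  obtain ⟨e⟩ := ExtPP.nonempty_HY j b hr M i
  have h2 : Subsingleton (Abelian.Ext.{u + 1} (ExtPP.P' Λ b) M i) := by
    refine subsingleton_of_forall_eq 0 fun x => ?_
    have h3 : (Abelian.Ext.mk₀ e0.inv).comp x (zero_add i) = 0 := Subsingleton.elim _ _
    have h4 : (Abelian.Ext.mk₀ e0.hom).comp ((Abelian.Ext.mk₀ e0.inv).comp x (zero_add i)) (zero_add i) = x := by
      rw [Abelian.Ext.mk₀_comp_mk₀_assoc, Iso.hom_inv_id, Abelian.Ext.mk₀_id_comp]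
    rw [← h4, h3, Abelian.Ext.comp_zero]
  have h5 : Subsingleton ((EtDual.HY j i).obj ((ab Λ X).obj M) : Type (u + 1)) := e.symm.toEquiv.subsingleton
  exact AddCommGrpCat.isZero_of_subsingleton _

end Ext

variable {A : Type u} [CommRing A] [HenselianLocalRing A] [IsSepClosed (IsLocalRing.ResidueField A)]
  {n : ℕ} [NeZero n] {c : ℤ}

/-- `Hom(H, ip_* Λ) = 0` if `H` vanishes at the closed point. -/
theorem subsingleton_PP (H : EtModW.Mod (Lam.{u} n) (Spec (CommRingCat.of A)))
    (h : IsZero ((EtModW.pull (Lam.{u} n) (ip A)).obj H)) : Subsingleton (H ⟶ PP A (Lam.{u} n)) := by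
  refine ⟨fun f g => ?_⟩
  apply ((EtDl.pullPushModAdj (Lam.{u} n) (ip A)).homEquiv H _).symm.injective
  exact h.eq_of_src _ _

/-- `Ext^i(ip_* Λ, F) = 0` for `i < k` if `H^b (D F)` vanishes at the closed point for `b > c - k`. -/
theorem subsingleton_ext [HasExt.{w'} (EtModW.Mod (Lam.{u} n) (Spec (CommRingCat.of A)))] (B : BaseData A n c)
    (F : EtModW.Mod (Lam.{u} n) (Spec (CommRingCat.of A))) (hF : EtModW.IsConstructible (Lam.{u} n) F) (i : ℕ) (b : ℤ)
    (hi : c - i = b)
    (h : IsZero ((EtModW.pull (Lam.{u} n) (ip A)).obj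
      (((stdDual (Lam.{u} n) (Spec (CommRingCat.of A))).D
        ((CochainComplex.singleFunctor _ 0).obj F)).homology b))) :
    Subsingleton (Abelian.Ext.{w'} (PP A (Lam.{u} n)) F i) := by
  have := ModPoint.injective_zmod.{u} n (NeZero.pos n)
  have h1 := subsingleton_PP _ h
  have h2 := CvAbs.subsingleton_hom (stdDual (Lam.{u} n) (Spec (CommRingCat.of A))) (nonempty_homPP A n) B.dP _
    (B.bid.refl _ ((Dbc323.isDbc_Q_single_iff F 0).2 hF)) b i hi h1
  exact CvAbs.subsingleton_ext _ _ i h2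

end K177.CvLoc
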