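import Groth.Agent.EGA4.K110.DimFib
import Groth.Agent.Etdl.H426.FibDim
import Groth.Agent.CalgB.PowField
import Groth.Agent.Etdl.H434.Defs

/-!
# Dimensions of the local rings of smooth schemes over power series rings

* `stalk_le`: `dim O_{X,x} ≤ M + d` for `X` smooth of relative dimension `d` over `Spec R`, `dim R = M`;
* `stalk_le_of_not_isClosed`: `dim O_{X,x} ≤ M` at the points which are not closed, if all the local rings have
  dimension at most `M + 1`.
-/

set_option autoImplicit false
universe u
open CategoryTheory CategoryTheory.Limits AlgebraicGeometry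

namespace K177.Dim

open Groth.Agent Groth.Agent.Etdl.H434.Defs

theorem stalk_Spec_le (R : Type u) [CommRing R] (y : Spec (CommRingCat.of R)) :
    ringKrullDim ((Spec (CommRingCat.of R)).presheaf.stalk y) ≤ ringKrullDim R := by
  refine (K110.DimFib.stalk_le_dim _ y).trans (le_of_eq ?_)
  exact PrimeSpectrum.topologicalKrullDim_eq_ringKrullDim R

/-- `dim O_{X,x} ≤ M + d` for `X` smooth of relative dimension `d` over the spectrum of a ring of dimension `M`. -/
theorem stalk_le {R : Type u} [CommRing R] [IsNoetherianRing R] {X : Scheme.{u}} (f : X ⟶ Spec (CommRingCat.of R))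
    (d : ℕ) [SmoothOfRelativeDimension d f] (M : ℕ) (hM : ringKrullDim R = M) (x : X) :
    ringKrullDim (X.presheaf.stalk x) ≤ ((M + d : ℕ) : WithBot ℕ∞) := by
  have : Smooth f := SmoothOfRelativeDimension.smooth d f
  refine (K110.DimFib.stalk_le_of_fibre_le f d (fun s => Etdl.H426.FibDim.fiber_le d f s) x).trans ?_
  rw [Nat.cast_add, ← hM]
  gcongr
  exact stalk_Spec_le R (f x)

/-- The local rings at the points which are not closed have smaller dimension. -/
theorem stalk_le_of_not_isClosed {X : Scheme.{u}} (M : ℕ)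
    (h : ∀ y : X, ringKrullDim (X.presheaf.stalk y) ≤ ((M + 1 : ℕ) : WithBot ℕ∞)) (x : X)
    (hx : ¬ IsClosed ({x} : Set X)) : ringKrullDim (X.presheaf.stalk x) ≤ ((M : ℕ) : WithBot ℕ∞) := by
  obtain ⟨y, hy, hne⟩ : ∃ y : X, x ⤳ y ∧ y ≠ x := by
    by_contra hcon
    push Not at hcon
    apply hx
    rw [← closure_subset_iff_isClosed]
    intro y hy
    exact hcon y (specializes_iff_mem_closure.2 hy)
  have h1 := h y
  rw [ringKrullDim_stalk_eq_coheight] at h1 ⊢
  have hlt : y < x := by
    refine lt_of_le_not_ge hy fun h' => hne ?_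
    exact (Specializes.antisymm (show y ⤳ x from h') hy).eq
  have h2 := Order.coheight_add_one_le hlt
  have h3 : (Order.coheight y) ≤ ((M + 1 : ℕ) : ℕ∞) := by exact_mod_cast h1
  have h4 : Order.coheight x + 1 ≤ ((M : ℕ) : ℕ∞) + 1 := by
    refine h2.trans (h3.trans ?_)
    push_cast
    exact le_refl _
  have h5 : Order.coheight x ≤ ((M : ℕ) : ℕ∞) := (ENat.add_le_add_iff_right (by simp)).1 h4
  exact_mod_cast h5

end K177.Dim
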