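import Groth.Agent.EtDepth.K973.PushGen
import Groth.Agent.EtDual.K336.GlobBase
import Groth.Agent.S3727
import Groth.Agent.S0184
import Groth.Agent.Etdl.H423.ShriekMod
import Groth.Agent.Etdl.H426.FibDim
import Groth.Agent.Sga4h.BidGeoCmp
import Groth.Agent.Etcore.LFinite
import Groth.Agent.EtDepth.K973.MuTriv
import Groth.Agent.EtDepth.K973.PushDbc

/-!
# Relative duality on iterated projective lines over a strictly henselian local base

`exists_push`: for `M` bounded below on `It S d` the direct image `N = Rf_* M` and the equivalences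
`Hom(N, G[r]) ≃ Hom(M, (f^* G)[r + 2 d])`, `Hom(G, N[r]) ≃ Hom(f^* G, M[r])`; `push`: the form `GlobS.Push`.
(Proof by helper973.)
-/

set_option autoImplicit false
universe u
open CategoryTheory CategoryTheory.Limits AlgebraicGeometry Opposite
attribute [local instance] HasDerivedCategory.standard

namespace K177.Push

open K973 Groth.Agent Groth.Agent.Sga4h.BidGeoIt Groth.Agent.Etrest.ModAb Groth.Agent.Etdl.H423.ModBasic

/-- `R^q f_*` vanishes for `q > 2d`, `f` proper and smooth of relative dimension `d`. -/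
theorem isZero_Rpush (Λ : Type (u + 1)) [CommRing Λ] {X S : Scheme.{u}} (f : X ⟶ S) [IsProper f] (d : ℕ)
    [SmoothOfRelativeDimension d f] (n : ℕ) (hn : 0 < n) (hΛ : (n : Λ) = 0) (F : EtModW.Mod Λ X) (i : ℕ)
    (hi : 2 * d < i) : IsZero (((EtModW.push Λ f).rightDerived i).obj F) := by
  have h1 := Etdl.H423.ShriekMod.isZero_Rpush_extZeroMod Λ (PushGen.triv f) d
    (fun s => Etdl.H426.FibDim.fiber_le d f s) n hn hΛ F i hi
  refine h1.of_iso (((EtModW.push Λ f).rightDerived i).mapIso ?_)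
  exact ((Etdl.H425.Clopen.extZeroPushIso Λ (𝟙 X) ≪≫ Etcore.LPullComp.pushId Λ X).app F).symm

/-- A sheaf of modules over a ring killed by `n` is killed by `n`. -/
theorem killedBy_ab {Λ : Type (u + 1)} [CommRing Λ] {X : Scheme.{u}} {n : ℕ} (hΛ : (n : Λ) = 0)
    (F : EtModW.Mod Λ X) : EtCoh.KilledBy n ((ab Λ X).obj F) := by
  intro U s
  let s' : EtModW.sect Λ F U := s
  have h : n • s' = 0 := by
    rw [← Nat.cast_smul_eq_nsmul Λ, hΛ, zero_smul]
  exact h

/-- `R^q f_*` of a constructible sheaf of modules. -/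
theorem isConstructible_Rpush (Λ : Type (u + 1)) [CommRing Λ] [Finite Λ] {X S : Scheme.{u}} (f : X ⟶ S) [IsProper f]
    [LocallyOfFinitePresentation f] (n : ℕ) (hn : 0 < n) (hΛ : (n : Λ) = 0) (F : EtModW.Mod Λ X)
    (hF : EtModW.IsConstructible Λ F) (q : ℕ) :
    EtModW.IsConstructible Λ (((EtModW.push Λ f).rightDerived q).obj F) := by
  rw [Etcore.LFinite.isConstructible_iff_ab] at hF ⊢
  have h := S0184.result f n hn _ hF (killedBy_ab hΛ F) q
  exact EtpbcA.StrataGlob.isConstructible_of_iso ((rpushIso Λ f q).app F).symm h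

/-- **Relative duality** on iterated projective lines over a strictly henselian local base. -/
theorem exists_push (R : Type u) [CommRing R] [IsNoetherianRing R] (hR : EtCoh.IsStrictlyHenselianLocalRing R)
    (m : ℕ) [NeZero m] (hm : IsUnit (m : R)) (d : ℕ)
    (M : EtModD.D (ULift.{u + 1} (ZMod m)) (It (Spec (CommRingCat.of R)) d)) (a : ℤ) [hM : M.IsGE a] :
    ∃ N : EtModD.D (ULift.{u + 1} (ZMod m)) (Spec (CommRingCat.of R)), N.IsGE a ∧
      (EtModD.IsDbc M → EtModD.IsDbc N) ∧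
      (∀ (G : EtModW.Mod (ULift.{u + 1} (ZMod m)) (Spec (CommRingCat.of R))) (r : ℤ),
        Nonempty ((N ⟶ ((DerivedCategory.singleFunctor _ 0).obj G)⟦r⟧) ≃
          (M ⟶ ((DerivedCategory.singleFunctor _ 0).obj
            ((EtModW.pull (ULift.{u + 1} (ZMod m)) (str (Spec (CommRingCat.of R)) d)).obj G))⟦r + 2 * (d : ℤ)⟧))) ∧
      (∀ (G : EtModW.Mod (ULift.{u + 1} (ZMod m)) (Spec (CommRingCat.of R))) (r : ℤ),
        Nonempty (((DerivedCategory.singleFunctor _ 0).obj G ⟶ N⟦r⟧) ≃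
          ((DerivedCategory.singleFunctor _ 0).obj
            ((EtModW.pull (ULift.{u + 1} (ZMod m)) (str (Spec (CommRingCat.of R)) d)).obj G) ⟶ M⟦r⟧))) := by
  let S : Scheme.{u} := Spec (CommRingCat.of R)
  let X : Scheme.{u} := It S d
  let f : X ⟶ S := str S d
  have hm0 : m ≠ 0 := NeZero.ne m
  have hp : IsProper f := isProper_str S d
  have hs : SmoothOfRelativeDimension d f := Sga4h.BidGeoCmp.smooth_str S d
  have hX1 : CompactSpace X := QuasiCompact.compactSpace_of_compactSpace f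
  have hX2 : QuasiSeparatedSpace X := (quasiSeparated_iff_quasiSeparatedSpace f).1 inferInstance
  have hmS : IsUnit (m : Γ(S, ⊤)) := by
    have h := hm.map (Scheme.ΓSpecIso (CommRingCat.of R)).inv.hom
    rwa [map_natCast] at h
  have hΛ : (m : ULift.{u + 1} (ZMod m)) = 0 := by
    apply ULift.down_injective
    exact ZMod.natCast_self m
  have hk := MuTriv.isKummer_const (X := X) m (MuTriv.nonempty_const_mu R hR m hm0 hm f)
  have hadj := S3727.result (f := f) d (PushGen.triv f) m (Nat.pos_of_ne_zero hm0) hmS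
    (EtModW.constMod (ULift.{u + 1} (ZMod m)) X (ULift.{u + 1} (ZMod m))) hk
  obtain ⟨N, h1, h2, h3, h4⟩ := PushGen.exists_push f (2 * (d : ℤ)) _
    (MuTriv.nonempty_tensorPow_iso (ULift.{u + 1} (ZMod m)) X d) hadj M a
  refine ⟨N, h1, fun hd => ?_, h3, h4⟩
  rw [h2]
  have : PreservesFiniteLimits (EtModW.push (ULift.{u + 1} (ZMod m)) f) :=
    Etdl.H424.PullPushPlus.preservesFiniteLimits_push _ f
  exact PushDbc.isDbc_rd (EtModW.push (ULift.{u + 1} (ZMod m)) f)
    (fun G hG q => isConstructible_Rpush _ f m (Nat.pos_of_ne_zero hm0) hΛ G hG q) (2 * d)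
    (fun G q hq => isZero_Rpush _ f d m (Nat.pos_of_ne_zero hm0) hΛ G q hq) ⟨M, ⟨a, hM⟩⟩ hd

/-- The relative duality in the form `GlobS.Push`. -/
theorem push (R : Type u) [CommRing R] [IsNoetherianRing R] (hR : EtCoh.IsStrictlyHenselianLocalRing R)
    (m : ℕ) [NeZero m] (hm : IsUnit (m : R)) (d : ℕ) :
    EtDual.K336.GlobS.Push (ULift.{u + 1} (ZMod m)) (str (Spec (CommRingCat.of R)) d) (2 * (d : ℤ)) := by
  intro M hM
  obtain ⟨⟨a, b, ha, hb⟩, hc⟩ := hM
  obtain ⟨N, h1, h2, h3, h4⟩ := exists_push R hR m hm d M a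
  exact ⟨N, h2 ⟨⟨a, b, ha, hb⟩, hc⟩, h3, h4⟩

end K177.Push
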