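import Groth.Agent.EtDepth.K177.Step
import Groth.Agent.EtDepth.K177.Push
import Groth.Agent.EtDepth.K973.CoreStmt
import Groth.Agent.EtDepth.K813.Dims
import Groth.Agent.Sga5.H859.Desc
import Groth.Agent.Sga4h.BidPtDbc
import Groth.Agent.Etdl.H434.T0
import Groth.Agent.EtDual.K336.SPg

/-!
# Biduality and duality over power series rings: assembly

* `bidSP_zero`: `BidSP m 0`;
* `bidSP`: `BidSP m c` for all `c`, by induction from `NodeHull`, `NodeAlg'` and `NodeBase`;
* `dualP`: `DualP m M N K`;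
* `suppBd`: the bounds on the supports on the affine spaces.
-/

set_option autoImplicit false
universe u
open CategoryTheory CategoryTheory.Limits AlgebraicGeometry Opposite IsLocalRing
attribute [local instance 5000] CategoryTheory.Abelian.toPreadditive
  CategoryTheory.Preadditive.preadditiveHasZeroMorphisms
attribute [local instance] HasDerivedCategory.standard

namespace K177.DualAsm

open scoped Groth.Agent.Sga4h.ModInst
open Groth.Agent K973.Stmt K973.BidStmt K973.CoreStmt Groth.Agent.Etdl.H434.Defs Groth.Agent.Sga4h.BidIndLoc48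
  Groth.Agent.Sga4h.BidRed538Main Groth.Agent.Sga4h.BidGeoIt Groth.Agent.EtDual.K336

/-- NODE ALG with the induction hypotheses. -/
def NodeAlg' : Prop :=
  ∀ (m : ℕ) (_ : 0 < m) (M : ℕ) (_ : ∀ c ≤ M, BidSP.{u} m c)
    (_ : ∀ (K : Type u) [Field K] [IsAlgClosed K] [CharZero K], Bid (stdDual (Lam.{u} m) (It (SP M K) 1))),
    BidSP.{u} m (M + 1)

/-- `Spec K ⟶ Spec K[[∅]]` is an isomorphism. -/
theorem isIso_tpt (K : Type u) [Field K] : IsIso (tpt 0 K) := by
  have hb : Function.Bijective (MvPowerSeries.constantCoeff (σ := Fin 0) (R := K)) := by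
    constructor
    · intro a b h
      obtain ⟨a', rfl⟩ := Etdl.H434.T0.C_surjective K a
      obtain ⟨b', rfl⟩ := Etdl.H434.T0.C_surjective K b
      simp only [MvPowerSeries.constantCoeff_C] at h
      rw [h]
    · intro a
      exact ⟨MvPowerSeries.C a, MvPowerSeries.constantCoeff_C a⟩
  have : IsIso (CommRingCat.ofHom (MvPowerSeries.constantCoeff (σ := Fin 0) (R := K))) :=
    (ConcreteCategory.isIso_iff_bijective _).mpr hb
  infer_instance

/-- `BidSP m 0`. -/
theorem bidSP_zero (m : ℕ) (hm : 0 < m) : BidSP.{u} m 0 := by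
  intro K _ _ _
  have : NeZero m := ⟨hm.ne'⟩
  have hi := isIso_tpt K
  have hX : AlgebraicGeometry.IsNoetherian (SP 0 K) := inferInstance
  have hL : IsNoetherianRing (GlobS.Lam.{u} m) := GlobS.isNoetherianRing_Lam
  have h1 : Bid (stdDual (Lam.{u} m) (Spec (CommRingCat.of K))) :=
    Sga4h.BidPtDbc.bid_point_zmod m hm _ (stdι _ _) (quasiIso_stdι _ _)
  refine Sga5.H859.Desc.bid (g := tpt 0 K) ?_ h1
  exact K973.RegCmp.loc_of_bcMor (tpt 0 K) hX (K177.Step.isUnit_natCast_Γ (K177.Step.isUnit_natCast 0 K hm))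
    (GlobS.lam_zero m) (EtpbcB.BCU.BCMor.of_isIso (tpt 0 K))

/-- **Biduality on `Spec K[[x_1, …, x_c]]`.** -/
theorem bidSP (hHull : NodeHull.{u}) (hAlg : NodeAlg'.{u}) (m : ℕ) (hm : 0 < m) (c : ℕ) : BidSP.{u} m c := by
  induction c using Nat.strong_induction_on with
  | _ c ih =>
    rcases c with _ | M
    · exact bidSP_zero m hm
    · refine hAlg m hm M (fun c hc => ih c (by omega)) fun K _ _ _ => ?_
      have : NeZero m := ⟨hm.ne'⟩
      exact K177.Step.bid_line hHull m hm M (fun c hc => ih c (by omega)) K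
        (SPg.baseData m M K (ih M (by omega) K))
        (K177.Push.push (MvPowerSeries (Fin M) K) (K177.Step.isStrictlyHenselian M K) m
          (K177.Step.isUnit_natCast M K hm) 1)

/-- **Biduality and the two dualities on `It (SP M K) N`.** -/
theorem dualP (hHull : NodeHull.{u}) (m : ℕ) (hm : 0 < m) (hB : ∀ c, BidSP.{u} m c) (M N : ℕ)
    (K : Type u) [Field K] [IsAlgClosed K] [CharZero K] : DualP.{u} m M N K := by
  have : NeZero m := ⟨hm.ne'⟩
  have hpr : IsProper (str (SP M K) N) := isProper_str _ N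
  have hsm : SmoothOfRelativeDimension N (str (SP M K) N) := Sga4h.BidGeoCmp.smooth_str (SP M K) N
  have hs : Smooth (str (SP M K) N) := SmoothOfRelativeDimension.smooth N _
  refine ⟨hHull m hm M K (It (SP M K) N) (str (SP M K) N) (M + N) (fun x => ?_) (fun c _ => hB c),
    SPg.gdata m M K N (hB M K) (K177.Push.push (MvPowerSeries (Fin M) K) (K177.Step.isStrictlyHenselian M K) m
      (K177.Step.isUnit_natCast M K hm) N)⟩
  exact K177.Dim.stalk_le (str (SP M K) N) N M (Groth.Agent.CalgB.PowField.ringKrullDim_eq K M) x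

/-- The bounds on the supports on the affine spaces. -/
theorem suppBd (hSupp : NodeSupp.{u}) (m : ℕ) (hm : 0 < m) (hB : ∀ c, BidSP.{u} m c) (M N : ℕ)
    (K : Type u) [Field K] [IsAlgClosed K] [CharZero K] :
    SuppBd.{u} m 𝔸(ULift.{u} (Fin N); SP M K) := by
  refine hSupp m hm M K _ (𝔸(ULift.{u} (Fin N); SP M K) ↘ SP M K) (M + N) (fun x => ?_) (fun c _ => hB c)
  obtain ⟨e, c, r, h1, -, -, h4⟩ := K813.Dims.stalk_formula (A := MvPowerSeries (Fin M) K) M N
    (Groth.Agent.CalgB.PowField.ringKrullDim_eq K M) x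
  rw [h1]
  exact_mod_cast (by omega : e ≤ M + N)

end K177.DualAsm
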