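import Groth.Agent.EtDepth.K177.Lef
import Groth.Agent.EtDepth.K177.DualAsm
import Groth.Agent.EtDepth.K555.VanPart
import Groth.Agent.EtDepth.K482.EtL3
import Groth.Agent.EtDepth.K482.EtCoreMain
import Groth.Agent.EtDepth.K584.EtArt

/-!
# The local Lefschetz theorems: assembly

`van`, `finDepth`: the vanishing and finiteness theorems over the punctured spectrum of an excellent henselian local
ring over `ℚ`, from the nodes `NodeHull`, `NodeSupp`, `NodeAlg'`, `NodeFin`.
-/

set_option autoImplicit false
set_option linter.overlappingInstances false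
universe u
open CategoryTheory CategoryTheory.Limits AlgebraicGeometry Opposite

namespace K177.Fin

open K973.Stmt K973.BidStmt K973.CoreStmt

variable (hHull : NodeHull.{u}) (hSupp : NodeSupp.{u}) (hAlg : K177.DualAsm.NodeAlg'.{u})
  (A : Type u) [CommRing A] [IsLocalRing A] [IsNoetherianRing A] [HenselianLocalRing A] [Algebra ℚ A]
  (hA : EGA4.IsExcellent A) (m : ℕ) (hm : IsPrimePow m)

include hHull hSupp hAlg hA hm

/-- The vanishing theorem over the punctured spectrum. -/
theorem van : Van (FEt.puncturedSpec A : Scheme.{u}) m := by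
  have hm0 : 0 < m := hm.pos
  have hB : ∀ c, BidSP.{u} m c := K177.DualAsm.bidSP hHull hAlg m hm0
  have hD := fun (M N : ℕ) (K : Type u) [Field K] [IsAlgClosed K] [CharZero K] =>
    K177.DualAsm.dualP hHull m hm0 hB M N K
  have hS := fun (M N : ℕ) (K : Type u) [Field K] [IsAlgClosed K] [CharZero K] =>
    K177.DualAsm.suppBd hSupp m hm0 hB M N K
  have h1 : OnSP.{u} (fun S' => Van S' m) := K482.EtCore.main m hm K584.EtArt.main hD hS
  have h2 : OnComplete.{u} (fun S' => Van S' m) := (K482.EtL3.main m hm0).1 h1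
  obtain ⟨h3, -⟩ := K555.VanPart.main A hA m hm
  apply h3
  exact h2

/-- The finiteness theorem over the punctured spectrum. -/
theorem finDepth (hFin : NodeFin.{u}) : FinDepth (FEt.puncturedSpec A : Scheme.{u}) m := by
  have hm0 : 0 < m := hm.pos
  have hB : ∀ c, BidSP.{u} m c := K177.DualAsm.bidSP hHull hAlg m hm0
  have hD := fun (M N : ℕ) (K : Type u) [Field K] [IsAlgClosed K] [CharZero K] =>
    K177.DualAsm.dualP hHull m hm0 hB M N K
  have hS := fun (M N : ℕ) (K : Type u) [Field K] [IsAlgClosed K] [CharZero K] =>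
    K177.DualAsm.suppBd hSupp m hm0 hB M N K
  have h1 : OnSP.{u} (fun S' => FinDepth S' m) := hFin m hm hD hS
  have h2 : OnComplete.{u} (fun S' => FinDepth S' m) := (K482.EtL3.main m hm0).2 h1
  obtain ⟨-, h3⟩ := K555.VanPart.main A hA m hm
  apply h3
  exact h2

end K177.Fin
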