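import Groth.Agent.EtDepth.K343.LefOne

/-!
# The local Lefschetz theorems from the vanishing and finiteness theorems over the punctured spectrum

* `lef_all`: all the neighbourhoods, from `NodeL1` and `Van`;
* `lef_nhds`: small neighbourhoods, from `NodeL1`, `Van` and `FinDepth`.
-/

set_option autoImplicit false
universe u
open CategoryTheory CategoryTheory.Limits AlgebraicGeometry Opposite TopologicalSpace
attribute [local instance] HasDerivedCategory.standard

namespace K177.Lef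

open K973.Stmt Groth.Agent.Sga2lef.H134

/-- A point whose closure has dimension zero is closed. -/
theorem isClosed_of_dim {X : Type u} [TopologicalSpace X] [T0Space X] (x : X)
    (h : topologicalKrullDim ↥(closure ({x} : Set X)) = 0) : IsClosed ({x} : Set X) := by
  by_contra hx
  obtain ⟨y, hy, hne⟩ : ∃ y : X, y ∈ closure ({x} : Set X) ∧ y ≠ x := by
    by_contra hcon
    push Not at hcon
    exact hx (closure_subset_iff_isClosed.1 fun y hy => hcon y hy)
  let x' : ↥(closure ({x} : Set X)) := ⟨x, subset_closure rfl⟩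
  let y' : ↥(closure ({x} : Set X)) := ⟨y, hy⟩
  let a : IrreducibleCloseds ↥(closure ({x} : Set X)) :=
    ⟨closure {y'}, isIrreducible_singleton.closure, isClosed_closure⟩
  let b : IrreducibleCloseds ↥(closure ({x} : Set X)) :=
    ⟨closure {x'}, isIrreducible_singleton.closure, isClosed_closure⟩
  have hxy : x' ⤳ y' := by
    rw [← Topology.IsInducing.subtypeVal.specializes_iff]
    exact specializes_iff_mem_closure.2 hy
  have hab : a < b := by
    refine lt_of_le_not_ge ?_ fun hba => hne ?_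
    · exact specializes_iff_closure_subset.1 hxy
    · have h1 : y' ⤳ x' := specializes_iff_closure_subset.2 hba
      exact congrArg Subtype.val (h1.antisymm hxy).eq
  have h2 : 0 < topologicalKrullDim ↥(closure ({x} : Set X)) := Order.krullDim_pos_iff.2 ⟨a, b, hab⟩
  exact absurd h h2.ne'

variable {A : Type u} [CommRing A] [IsLocalRing A] [IsNoetherianRing A] (hA : EGA4.IsExcellent A) {m : ℕ}
  (hm : 0 < m) (hV : Van (FEt.puncturedSpec A : Scheme.{u}) m) {X : Scheme.{u}}
  (g : X ⟶ (FEt.puncturedSpec A : Scheme.{u})) [IsProper g] (c : ℕ) (V : Fin (c + 1) → X.Opens)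
  (hVa : ∀ i, IsAffineOpen (V i)) (𝓨 : X.IdealSheafData)
  (hY : (𝓨.support : Set X) = (((⨆ i, V i) : X.Opens) : Set X)ᶜ) (F : EtCoh.Ab X) (hFm : EtCoh.KilledBy m F)
  (hFc : EtPBC.IsConstructible F) (n : ℕ)

include hA hm hV g hVa hY hFm hFc

/-- The Lefschetz theorem for all the neighbourhoods. -/
theorem lef_all (hdepth : ∀ u : X, u ∈ (⨆ i, V i) → ∀ d : ℕ,
      topologicalKrullDim ↥(closure ({u} : Set X)) = (d : WithBot ℕ∞) → EtDepth.DepthAtGE X F u (n - d))
    (W : X.Opens) (hW : (𝓨.support : Set X) ⊆ (W : Set X)) : Concl 𝓨 F c n W :=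
  K343.LefOne.main A hA m hm hV X g c V hVa 𝓨 hY F hFm hFc n W hW ⟨fun u hu d hd => hdepth u hu.1 d hd⟩

/-- The Lefschetz theorem for small neighbourhoods. -/
theorem lef_nhds (hFD : FinDepth (FEt.puncturedSpec A : Scheme.{u}) m)
    (hdepth : ∀ u : X, u ∈ (⨆ i, V i) → ∀ d : ℕ,
      topologicalKrullDim ↥(closure ({u} : Set X)) = (d : WithBot ℕ∞) →
        EtDepth.DepthAtGE X F u (min (n - 1) (n - d))) :
    ∃ W₀ : X.Opens, (𝓨.support : Set X) ⊆ (W₀ : Set X) ∧
      ∀ W : X.Opens, (𝓨.support : Set X) ⊆ (W : Set X) → W ≤ W₀ → Concl 𝓨 F c n W := by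
  have hm' : NeZero m := ⟨hm.ne'⟩
  obtain ⟨M, ⟨eM⟩⟩ := Groth.Agent.Sga2lef.H252.ModOf.exists_mod F hFm
  have hfin : Finite (Lam.{u} m) := inferInstanceAs (Finite (ULift.{u + 1} (ZMod m)))
  have hMc : EtModW.IsConstructible (Lam.{u} m) M :=
    (Groth.Agent.Etcore.LFinite.isConstructible_iff_ab M).2
      (Groth.Agent.EtpbcA.StrataGlob.isConstructible_of_iso eM.symm hFc)
  let Λ := Lam.{u} m
  let S' : (Spec (CommRingCat.of A)).Opens := FEt.puncturedSpec A
  let p : X ⟶ Spec (CommRingCat.of A) := g ≫ S'.ι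
  have hN : IsLocallyNoetherian (Spec (CommRingCat.of A)) := inferInstance
  have hp : ∀ x, p x ≠ K549.ClosDim.cp A := fun x => (g x).2
  -- the dimensions and the depths on the affine open subschemes
  have hdim : ∀ (i : Fin (c + 1)) (v : (V i).toScheme), topologicalKrullDim ↥(closure ({v} : Set (V i).toScheme)) =
      topologicalKrullDim ↥(closure ({(V i).ι v} : Set X)) := by
    intro i v
    have hLa : IsAffine (V i).toScheme := hVa i
    have hqc : QuasiCompact ((V i).ι ≫ p) := inferInstance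
    exact K343.LefOne.dim_closure_open hA.2.1 p hp (V i).ι v
  let e : ∀ i, (EtCoh.pull (V i).ι).obj F ≅
      (EtModD.forgetToAb Λ (V i).toScheme).obj ((EtModW.pull Λ (V i).ι).obj M) :=
    fun i => (EtCoh.pull (V i).ι).mapIso eM.symm ≪≫ ((Groth.Agent.Etrest.ModAb.pullIso Λ (V i).ι).app M).symm
  have hdp : ∀ (i : Fin (c + 1)) (v : (V i).toScheme) (k : ℕ),
      EtDepth.DepthAtGE (V i).toScheme ((EtModD.forgetToAb Λ (V i).toScheme).obj ((EtModW.pull Λ (V i).ι).obj M)) v k ↔
        EtDepth.DepthAtGE X F ((V i).ι v) k := by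
    intro i v k
    rw [← DepthAt.depthAtGE_pull_iff (V i).ι F v k]
    exact ⟨fun h => DepthAt.DepthAtGE.of_iso (e i).symm h, fun h => DepthAt.DepthAtGE.of_iso (e i) h⟩
  let T : ∀ i, Set (V i).toScheme := fun i => {v | topologicalKrullDim ↥(closure ({v} : Set (V i).toScheme)) = 0 ∧
      ¬ EtDepth.DepthAtGE (V i).toScheme
        ((EtModD.forgetToAb Λ (V i).toScheme).obj ((EtModW.pull Λ (V i).ι).obj M)) v n}
  have hT : ∀ i, (T i).Finite := by
    intro i
    have hLa : IsAffine (V i).toScheme := hVa i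
    refine hFD ((V i).ι ≫ g) ((EtModW.pull Λ (V i).ι).obj M)
      (Groth.Agent.Etcore.LCrit.isConstructible_pull (V i).ι M hMc) n fun v d hd0 hd => ?_
    rw [hdp]
    have h1 := hdepth ((V i).ι v) ((le_iSup V i) v.2) d (by rw [← hdim]; exact hd)
    rwa [min_eq_right (by omega)] at h1
  have hfinT : (⋃ i, (V i).ι '' T i).Finite := Set.finite_iUnion fun i => (hT i).image _
  have hcl : IsClosed (⋃ i, (V i).ι '' T i) := by
    rw [← Set.biUnion_of_singleton (⋃ i, (V i).ι '' T i)]
    refine hfinT.isClosed_biUnion fun x hx => ?_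
    obtain ⟨i, v, hv, rfl⟩ := Set.mem_iUnion.1 hx
    refine isClosed_of_dim _ ?_
    rw [← hdim]
    exact hv.1
  refine ⟨⟨_, hcl.isOpen_compl⟩, ?_, fun W hW hW0 => ?_⟩
  · intro y hy hyT
    obtain ⟨i, v, hv, rfl⟩ := Set.mem_iUnion.1 hyT
    rw [hY] at hy
    exact hy ((le_iSup V i) v.2)
  · refine K343.LefOne.main A hA m hm hV X g c V hVa 𝓨 hY F hFm hFc n W hW ⟨fun u hu d hd => ?_⟩
    rcases Nat.eq_zero_or_pos d with rfl | hd0
    · obtain ⟨i, hi⟩ := Opens.mem_iSup.1 hu.1
      have h1 : (⟨u, hi⟩ : V i) ∉ T i := fun hmem => hW0 hu.2 (Set.mem_iUnion.2 ⟨i, ⟨u, hi⟩, hmem, rfl⟩)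
      by_contra hcon
      refine h1 ⟨?_, fun h2 => hcon ?_⟩
      · exact (hdim i ⟨u, hi⟩).trans hd
      · exact (hdp i ⟨u, hi⟩ n).1 h2
    · have h1 := hdepth u hu.1 d hd
      rwa [min_eq_right (by omega)] at h1

end K177.Lef
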