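import Groth.Agent.EtDepth.K177.Fin

/-!
# S5202 and S5197 from the nodes
-/

set_option autoImplicit false
set_option linter.overlappingInstances false
universe u
open CategoryTheory CategoryTheory.Limits AlgebraicGeometry Opposite TopologicalSpace

namespace K177.Rows

open K973.Stmt K973.BidStmt K973.CoreStmt

/-- S5202 from the nodes. -/
theorem s5202 (hHull : NodeHull.{u}) (hSupp : NodeSupp.{u}) (hAlg : K177.DualAsm.NodeAlg'.{u}) (A : Type u) [CommRing A] [IsLocalRing A] [IsNoetherianRing A] [HenselianLocalRing A] [Algebra ℚ A] (hA : EGA4.IsExcellent A) (X : Scheme.{u}) (g : X ⟶ (FEt.puncturedSpec A : Scheme.{u})) [IsProper g] (c : ℕ) (V : Fin (c + 1) → X.Opens) (hV : ∀ i, IsAffineOpen (V i)) (𝓨 : X.IdealSheafData) (hY : (𝓨.support : Set X) = (((⨆ i, V i) : X.Opens) : Set X)ᶜ) (m : ℕ) (hm : IsPrimePow m) (F : EtCoh.Ab X) (hFm : EtCoh.KilledBy m F) (hFc : EtPBC.IsConstructible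 F) (n : ℕ) (hdepth : ∀ u : X, u ∈ (⨆ i, V i) → ∀ d : ℕ, topologicalKrullDim ↥(closure ({u} : Set X)) = (d : WithBot ℕ∞) → EtDepth.DepthAtGE X F u (n - d)) : ∀ (W : X.Opens), (𝓨.support : Set X) ⊆ (W : Set X) → ∀ (i : 𝓨.subscheme ⟶ (W : Scheme.{u})) [EtCoh.BCCont i] [PreservesFiniteLimits (EtCoh.pull i)], i ≫ W.ι = 𝓨.subschemeι → (∀ k : ℕ, k + c + 1 < n → Function.Bijective (EtCore.Hpull i ((EtCoh.pull W.ι).obj F) k)) ∧ (∀ k : ℕ, k + c + 1 = n → Function.Injective (EtCore.Hpull i ((EtCoh.pull W.ι).obj F) k)) := by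
  have h1 : Van (FEt.puncturedSpec A : Scheme.{u}) m := K177.Fin.van hHull hSupp hAlg A hA m hm
  intro W hW i _ _ hi
  exact K177.Lef.lef_all hA hm.pos h1 g c V hV 𝓨 hY F hFm hFc n hdepth W hW i hi

/-- S5197 from the nodes. -/
theorem s5197 (hHull : NodeHull.{u}) (hSupp : NodeSupp.{u}) (hAlg : K177.DualAsm.NodeAlg'.{u}) (hFin : NodeFin.{u}) (A : Type u) [CommRing A] [IsLocalRing A] [IsNoetherianRing A] [HenselianLocalRing A] [Algebra ℚ A] (hA : EGA4.IsExcellent A) (X : Scheme.{u}) (g : X ⟶ (FEt.puncturedSpec A : Scheme.{u})) [IsProper g] (c : ℕ) (V : Fin (c + 1) → X.Opens) (hV : ∀ i, IsAffineOpen (V i)) (𝓨 : X.IdealSheafData) (hY : (𝓨.support : Set X) = (((⨆ i, V i) : X.Opens) : Set X)ᶜ) (m : ℕ) (hm : IsPrimePow m) (F : EtCoh.Ab X) (hFm : EtCoh.KilledBy m F) (hFc : EtPBC.IsConstructible F) (n : ℕ) (hdepth : ∀ u : X, u ∈ (⨆ i, V i) → ∀ d : ℕ, topologicalKrullDim ↥(closure ({u}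 : Set X)) = (d : WithBot ℕ∞) → EtDepth.DepthAtGE X F u (min (n - 1) (n - d))) : (∃ W₀ : X.Opens, (𝓨.support : Set X) ⊆ (W₀ : Set X) ∧ ∀ (W : X.Opens), (𝓨.support : Set X) ⊆ (W : Set X) → W ≤ W₀ → ∀ (i : 𝓨.subscheme ⟶ (W : Scheme.{u})) [EtCoh.BCCont i] [PreservesFiniteLimits (EtCoh.pull i)], i ≫ W.ι = 𝓨.subschemeι → (∀ k : ℕ, k + c + 1 < n → Function.Bijective (EtCore.Hpull i ((EtCoh.pull W.ι).obj F) k)) ∧ (∀ k : ℕ, k + c + 1 = n → Function.Injective (EtCore.Hpull i ((EtCoh.pull W.ι).obj F) k))) := by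
  have h1 : Van (FEt.puncturedSpec A : Scheme.{u}) m := K177.Fin.van hHull hSupp hAlg A hA m hm
  have h2 : FinDepth (FEt.puncturedSpec A : Scheme.{u}) m := K177.Fin.finDepth hHull hSupp hAlg A hA m hm hFin
  obtain ⟨W₀, h3, h4⟩ := K177.Lef.lef_nhds hA hm.pos h1 g c V hV 𝓨 hY F hFm hFc n h2 hdepth
  refine ⟨W₀, h3, fun W hW hW0 i _ _ hi => ?_⟩
  exact h4 W hW hW0 i hi

end K177.Rows
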