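import Groth.Agent.EtDual.K336.GlobStep
import Groth.Agent.EtDual.K336.GeoFam
import Groth.Agent.EtDepth.K973.BidStmt
import Groth.Agent.EtDepth.K973.RegCmp
import Groth.Agent.EtDl.K555.RegMor
import Groth.Agent.Etdl.H441.Hull
import Groth.Agent.Etdl.H428.PowSer
import Groth.Agent.Sga4h.BidGeoCmp
import Groth.Agent.EtDepth.K177.Dim

/-!
# The projective line over `Spec K[[x_1, …, x_M]]`: biduality

* `bid_two`: the induction step `GlobS.bid` with two morphisms satisfying `BidLoc48.Loc`;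
* `exists_hull`: the hull `Spec K'[[x_1, …, x_M]] ⟶ P^1` at the generic point of the special fibre;
* `bid_line`: biduality on the projective line over `Spec K[[x_1, …, x_M]]` from `NodeHull`, `BidSP m c'` for `c' ≤ M`,
  relative duality and the duality data of the base.
-/

set_option autoImplicit false
universe u
open CategoryTheory CategoryTheory.Limits AlgebraicGeometry Opposite IsLocalRing
attribute [local instance 5000] CategoryTheory.Abelian.toPreadditive
  CategoryTheory.Preadditive.preadditiveHasZeroMorphisms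
attribute [local instance] HasDerivedCategory.standard

namespace K177.Step

open scoped Groth.Agent.Sga4h.ModInst
open Groth.Agent K973.Stmt K973.BidStmt Groth.Agent.Etdl.H434.Defs Groth.Agent.Sga4h.BidIndLoc48
  Groth.Agent.Sga4h.BidRed538Main Groth.Agent.Sga4h.BidGeoIt Groth.Agent.EtDual.K336
  Groth.Agent.Dix.ProjProper Groth.Agent.CohqB.ProjBC

section Abs

variable {A : Type u} [CommRing A] [HenselianLocalRing A] [IsSepClosed (ResidueField A)]
  {n : ℕ} [NeZero n] {c e : ℤ} {X : Scheme.{u}} (f : X ⟶ Spec (CommRingCat.of A))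

/-- The induction step over a strictly local base, with morphisms satisfying `Loc`. -/
theorem bid_loc [IsNoetherianRing A] [IsNoetherian X] [Smooth f] (hn : IsUnit (n : A)) (B : GlobS.BaseData A n c)
    (hf : GlobS.Push (GlobS.Lam.{u} n) f e) (N : ℕ) (hN : e + c = N)
    (hcl : ∀ x : X, IsClosed {x} → f x = closedPoint A)
    (hsep : ∀ x : X, IsClosed {x} → IsSepClosed (X.residueField x))
    {ι : Type*} [Finite ι] (X' : ι → Scheme.{u}) (g : ∀ i, X' i ⟶ X)
    [∀ i, CompactSpace (X' i)] [∀ i, QuasiSeparatedSpace (X' i)]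
    (hcov : ∀ x : X, (∀ i, x ∉ Set.range (g i)) → IsClosed {x})
    (l : ∀ i, Sga4h.BidLoc48.Loc (stdDual (GlobS.Lam.{u} n) X) (stdDual (GlobS.Lam.{u} n) (X' i)) (g i))
    (b : ∀ i, Bid (stdDual (GlobS.Lam.{u} n) (X' i))) :
    Bid (stdDual (GlobS.Lam.{u} n) X) := by
  have hfin : Finite (GlobS.Lam.{u} n) := inferInstance
  have hL : IsNoetherianRing (GlobS.Lam.{u} n) := GlobS.isNoetherianRing_Lam
  exact BidStep.bid_of_loc hsep (NeZero.pos n) (GlobS.lam_zero n) (stdDual (GlobS.Lam.{u} n) X)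
    (Sga4h.TensorUnit.tensorUnitRight (GlobS.Lam.{u} n) X) (stdι _ _) (quasiIso_stdι _ _) (GlobS.ZZ (n := n) f)
    (GlobS.gdata f hn B hf N hN) (GlobS.hZ f hcl) X' g hcov (fun i => stdDual (GlobS.Lam.{u} n) (X' i)) l b

/-- The induction step over a strictly local base, with two morphisms satisfying `Loc`. -/
theorem bid_two [IsNoetherianRing A] [IsNoetherian X] [Smooth f] (hn : IsUnit (n : A)) (B : GlobS.BaseData A n c)
    (hf : GlobS.Push (GlobS.Lam.{u} n) f e) (N : ℕ) (hN : e + c = N)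
    (hcl : ∀ x : X, IsClosed {x} → f x = closedPoint A)
    (hsep : ∀ x : X, IsClosed {x} → IsSepClosed (X.residueField x))
    {X₁ X₂ : Scheme.{u}} (g₁ : X₁ ⟶ X) (g₂ : X₂ ⟶ X) [h11 : CompactSpace X₁] [h12 : QuasiSeparatedSpace X₁]
    [h21 : CompactSpace X₂] [h22 : QuasiSeparatedSpace X₂]
    (hcov : ∀ x : X, x ∉ Set.range g₁ → x ∉ Set.range g₂ → IsClosed {x})
    (l₁ : Sga4h.BidLoc48.Loc (stdDual (GlobS.Lam.{u} n) X) (stdDual (GlobS.Lam.{u} n) X₁) g₁)
    (l₂ : Sga4h.BidLoc48.Loc (stdDual (GlobS.Lam.{u} n) X) (stdDual (GlobS.Lam.{u} n) X₂) g₂)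
    (b₁ : Bid (stdDual (GlobS.Lam.{u} n) X₁)) (b₂ : Bid (stdDual (GlobS.Lam.{u} n) X₂)) :
    Bid (stdDual (GlobS.Lam.{u} n) X) :=
  @bid_loc A _ _ _ n _ c e X f _ _ _ hn B hf N hN hcl hsep Bool _ (fun b => Bool.rec X₁ X₂ b)
    (fun b => Bool.rec (motive := fun b => (Bool.rec X₁ X₂ b : Scheme.{u}) ⟶ X) g₁ g₂ b)
    (fun b => Bool.rec h11 h21 b) (fun b => Bool.rec h12 h22 b)
    (fun x hx => hcov x (hx false) (hx true))
    (fun b => Bool.rec l₁ l₂ b) (fun b => Bool.rec b₁ b₂ b)

end Abs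

section Geo

theorem isNoetherian_It (R : Type u) [CommRing R] [IsNoetherianRing R] (d : ℕ) :
    AlgebraicGeometry.IsNoetherian (It (Spec (CommRingCat.of R)) d) := by
  have hp : IsProper (str (Spec (CommRingCat.of R)) d) := isProper_str _ d
  have hN : AlgebraicGeometry.IsNoetherian (Spec (CommRingCat.of R)) := inferInstance
  have h1 : IsLocallyNoetherian (It (Spec (CommRingCat.of R)) d) :=
    LocallyOfFiniteType.isLocallyNoetherian (str (Spec (CommRingCat.of R)) d)
  have h2 : CompactSpace (It (Spec (CommRingCat.of R)) d) :=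
    QuasiCompact.compactSpace_of_compactSpace (str (Spec (CommRingCat.of R)) d)
  exact { }

theorem isStrictlyHenselian (M : ℕ) (K : Type u) [Field K] [IsAlgClosed K] :
    EtCoh.IsStrictlyHenselianLocalRing (MvPowerSeries (Fin M) K) :=
  ⟨Etdl.H428.PowSer.henselian K M, Etdl.H428.PowSer.isSepClosed_residueField K M⟩

theorem isUnit_natCast (M : ℕ) (K : Type u) [Field K] [CharZero K] {n : ℕ} (hn : 0 < n) :
    IsUnit (n : MvPowerSeries (Fin M) K) := by
  have h0 : (n : K) ≠ 0 := Nat.cast_ne_zero.mpr hn.ne'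
  have h1 := (isUnit_iff_ne_zero.mpr h0).map (algebraMap K (MvPowerSeries (Fin M) K))
  rwa [map_natCast] at h1

theorem isUnit_natCast_Γ {R : Type u} [CommRing R] {n : ℕ} (hn : IsUnit (n : R)) :
    IsUnit (n : Γ(Spec (CommRingCat.of R), ⊤)) := by
  have h := hn.map (Scheme.ΓSpecIso (CommRingCat.of R)).inv.hom
  rwa [map_natCast] at h

/-- The hull at the generic point of the special fibre of the projective line (auxiliary form). -/
theorem exists_hull_aux (M : ℕ) (K : Type u) [Field K] [CharZero K] :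
    ∃ (K' : Type u) (_ : Field K') (_ : IsAlgClosed K') (_ : CharZero K')
      (g : SP M K' ⟶ CohB1.ProjSpaceOver 1 (SP M K)),
      EtpbcB.BCU.UBC (SP M K) g ∧ ∀ y : CohB1.ProjSpaceOver 1 (SP M K),
        CohB1.ProjSpaceOver.toBase 1 (SP M K) y = closedPoint (MvPowerSeries (Fin M) K) →
        y ∉ Set.range g → IsClosed ({y} : Set (CohB1.ProjSpaceOver 1 (SP M K))) := by
  obtain ⟨K', i1, i2, i3, ρ, hρ, hc⟩ := Etdl.H441.Hull.exists_hull M K
  let R := MvPowerSeries (Fin M) K
  have hN : IsNoetherianRing R := inferInstance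
  have hN' : IsNoetherianRing (MvPowerSeries (Fin M) K') := inferInstance
  let e := projSpaceOverIso 1 R
  let g₀ : SP M K' ⟶ Spec (CommRingCat.of (Polynomial R)) := Spec.map (CommRingCat.ofHom ρ)
  have hg0 : g₀ (closedPoint (MvPowerSeries (Fin M) K')) = GeoP1.spPt R := PrimeSpectrum.ext hc
  refine ⟨K', i1, i2, i3, (g₀ ≫ GeoP1.lin R 0) ≫ e.inv, ?_, ?_⟩
  · have h1 : EtpbcB.BCU.UBC (SP M K) e.inv := EtpbcB.BCU.UBC.of_isIso _
    have h2 : EtpbcB.BCU.UBC (SP M K) (GeoP1.lin R 0) :=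
      EtpbcB.BCU.UBC.of_smooth (CohB1.ProjSpace.toSpec 1 R) (GeoP1.lin R 0)
    have h3 : EtpbcB.BCU.UBC (SP M K) g₀ :=
      K555.RegMor.ubc_of_isRegularHom ρ hρ (Spec.map (CommRingCat.ofHom (Polynomial.C : R →+* Polynomial R)))
    exact h1.comp (h2.comp h3)
  · intro y hy hy'
    have hee : ∀ w, e.inv (e.hom w) = w := fun w =>
      congrArg (fun f : CohB1.ProjSpaceOver 1 (Spec (CommRingCat.of R)) ⟶ _ => f w) e.hom_inv_id
    have h0 : CohB1.ProjSpace.toSpec 1 R (e.hom y) = closedPoint R := by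
      rw [← Scheme.Hom.comp_apply, projSpaceOverIso_hom_toSpec, hy]
    rcases GeoP1.eq_or_isClosed R (e.hom y) h0 with h | h
    · exfalso
      apply hy'
      refine ⟨closedPoint (MvPowerSeries (Fin M) K'), ?_⟩
      change e.inv (GeoP1.lin R 0 (g₀ (closedPoint (MvPowerSeries (Fin M) K')))) = y
      rw [hg0, ← h, hee]
    · have h2 := h.preimage e.hom.continuous
      convert h2 using 1
      ext z
      simp only [Set.mem_singleton_iff, Set.mem_preimage]
      constructor
      · rintro rfl; rfl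
      · intro h
        have := congrArg e.inv h
        rwa [hee, hee] at this

/-- The hull at the generic point of the special fibre of the projective line. -/
theorem exists_hull (M : ℕ) (K : Type u) [Field K] [CharZero K] :
    ∃ (K' : Type u) (_ : Field K') (_ : IsAlgClosed K') (_ : CharZero K') (g : SP M K' ⟶ It (SP M K) 1),
      EtpbcB.BCU.UBC (SP M K) g ∧ ∀ y : It (SP M K) 1, str (SP M K) 1 y = closedPoint (MvPowerSeries (Fin M) K) →
        y ∉ Set.range g → IsClosed ({y} : Set (It (SP M K) 1)) :=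
  exists_hull_aux M K

end Geo

/-- **Biduality on the projective line** over a power series ring. -/
theorem bid_line (hNH : NodeHull.{u}) (m : ℕ) (hm : 0 < m) (M : ℕ) (hB : ∀ c ≤ M, BidSP.{u} m c)
    (K : Type u) [Field K] [IsAlgClosed K] [CharZero K]
    [HenselianLocalRing (MvPowerSeries (Fin M) K)] [IsSepClosed (ResidueField (MvPowerSeries (Fin M) K))]
    [NeZero m] (hBD : GlobS.BaseData (MvPowerSeries (Fin M) K) m (2 * (M : ℤ)))
    (hP : GlobS.Push (GlobS.Lam.{u} m) (str (SP M K) 1) (2 * ((1 : ℕ) : ℤ))) :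
    Bid (stdDual (Lam.{u} m) (It (SP M K) 1)) := by
  let R := MvPowerSeries (Fin M) K
  have hN : IsNoetherianRing R := inferInstance
  have hX : AlgebraicGeometry.IsNoetherian (It (SP M K) 1) := isNoetherian_It R 1
  have hpr : IsProper (str (SP M K) 1) := isProper_str _ 1
  have hsm : SmoothOfRelativeDimension 1 (str (SP M K) 1) := Sga4h.BidGeoCmp.smooth_str (SP M K) 1
  have hs : Smooth (str (SP M K) 1) := SmoothOfRelativeDimension.smooth 1 _
  have hmu : IsUnit (m : R) := isUnit_natCast M K hm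
  have hmΓ : IsUnit (m : Γ(SP M K, ⊤)) := isUnit_natCast_Γ hmu
  have hΛ : (m : GlobS.Lam.{u} m) = 0 := GlobS.lam_zero m
  have hL : IsNoetherianRing (GlobS.Lam.{u} m) := GlobS.isNoetherianRing_Lam
  have hcl : ∀ x : It (SP M K) 1, IsClosed ({x} : Set (It (SP M K) 1)) → str (SP M K) 1 x = closedPoint R :=
    fun x hx => GeoFam.over_closed _ x hx
  have hdim : ∀ x : It (SP M K) 1, ringKrullDim ((It (SP M K) 1).presheaf.stalk x) ≤ ((M + 1 : ℕ) : WithBot ℕ∞) :=
    fun x => Dim.stalk_le (str (SP M K) 1) 1 M (Groth.Agent.CalgB.PowField.ringKrullDim_eq K M) x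
  obtain ⟨K', i1, i2, i3, g, hg, hcov⟩ := exists_hull M K
  let V : (SP M K).Opens := ⟨{closedPoint R}ᶜ, (GeoFam.isClosed_closedPoint (R := R)).isOpen_compl⟩
  let U : (It (SP M K) 1).Opens := str (SP M K) 1 ⁻¹ᵁ V
  have hU1 : IsLocallyNoetherian U.toScheme := isLocallyNoetherian_of_isOpenImmersion U.ι
  have hU2 : CompactSpace U.toScheme := isCompact_iff_compactSpace.mp (TopologicalSpace.NoetherianSpace.isCompact _)
  have hb1 : Bid (stdDual (GlobS.Lam.{u} m) U.toScheme) := by
    refine hNH m hm M K U.toScheme (U.ι ≫ str (SP M K) 1) M (fun x => ?_) hB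
    have h1 : ringKrullDim (U.toScheme.presheaf.stalk x) = ringKrullDim ((It (SP M K) 1).presheaf.stalk (U.ι x)) :=
      (ringKrullDim_eq_of_ringEquiv (asIso (U.ι.stalkMap x)).commRingCatIsoToRingEquiv).symm
    rw [h1]
    refine Dim.stalk_le_of_not_isClosed M hdim _ fun hc => ?_
    have h2 := hcl _ hc
    have h3 : U.ι x ∈ U := x.2
    exact h3 h2
  refine bid_two (str (SP M K) 1) hmu hBD hP (2 + 2 * M) (by push_cast; ring) hcl
    (fun x hx => GeoFam.isSepClosed_It 1 x hx) U.ι g (fun x h1 h2 => hcov x ?_ h2)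
    (K973.RegCmp.loc_of_bcMor U.ι hX hmΓ hΛ (EtpbcB.BCU.UBC.of_smooth (str (SP M K) 1) U.ι).bcMor)
    (K973.RegCmp.loc_of_bcMor g hX hmΓ hΛ hg.bcMor) hb1 (hB M le_rfl K')
  rw [Scheme.Opens.range_ι] at h1
  by_contra hne
  exact h1 hne

end K177.Step
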